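import Cfsg.Agent.PQ.Sf.JT

/-!
# PQ, Schur functions: several alphabets, graded spans (helper58)
-/

set_option autoImplicit false
set_option linter.unusedSectionVars false

namespace Cfsg.Agent.PQ.Sf

open Finset Cfsg.Agent.H614 Cfsg.Agent.H421.GLn Cfsg.Agent.PQ.Val

variable {R : Type*} [CommRing R] [Algebra ℂ R] {m : ℕ} {J : Type} [Fintype J] [DecidableEq J]

/-- monomials of weight `w` -/
def MonR (Q : J → ℕ → R) (w : ℕ) : Set R :=
  {f | ∃ l : List (J × ℕ), (∀ y ∈ l, 0 < y.2) ∧ (l.map Prod.snd).sum = w ∧ f = (l.map fun y => Q y.1 y.2).prod}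

section span

variable {K : Type} [CommRing K] [Algebra K R] {Q : J → ℕ → R}

theorem L_one : (1 : R) ∈ Submodule.span K (MonR Q 0) := Submodule.subset_span ⟨[], by simp, rfl, rfl⟩

theorem L_gen (i : J) {n : ℕ} (hn : 0 < n) : Q i n ∈ Submodule.span K (MonR Q n) :=
  Submodule.subset_span ⟨[(i, n)], by simpa, by simp, by simp⟩

theorem L_mul {w w' : ℕ} {f g : R} (hf : f ∈ Submodule.span K (MonR Q w)) (hg : g ∈ Submodule.span K (MonR Q w')) :
    f * g ∈ Submodule.span K (MonR Q (w + w')) := by
  have h := Submodule.mul_mem_mul hf hg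
  rw [Submodule.span_mul_span] at h
  refine Submodule.span_mono ?_ h
  rintro _ ⟨_, ⟨l, h1, h2, rfl⟩, _, ⟨l', h3, h4, rfl⟩, rfl⟩
  exact ⟨l ++ l', fun y hy => (List.mem_append.1 hy).elim (h1 y) (h3 y), by simp [h2, h4], by simp⟩

theorem L_prod {ι : Type*} (s : Finset ι) (f : ι → R) (n : ι → ℕ) (h : ∀ x ∈ s, f x ∈ Submodule.span K (MonR Q (n x))) :
    ∏ x ∈ s, f x ∈ Submodule.span K (MonR Q (∑ x ∈ s, n x)) := by
  classical
  induction s using Finset.induction_on with
  | empty => simpa using L_one
  | insert a s ha ih =>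
    rw [prod_insert ha, sum_insert ha]
    exact L_mul (h a (mem_insert_self _ _)) (ih fun x hx => h x (mem_insert_of_mem hx))

theorem L_le (S : ℕ → Submodule K R) (N : ℕ) (h1 : 1 ∈ S 0)
    (hm : ∀ i k w, 0 < k → k + w ≤ N → ∀ f ∈ S w, Q i k * f ∈ S (k + w)) {w : ℕ} (hw : w ≤ N) :
    Submodule.span K (MonR Q w) ≤ S w := by
  refine Submodule.span_le.2 ?_
  rintro _ ⟨l, h2, rfl, rfl⟩
  induction l with
  | nil => exact h1
  | cons y l ih =>
    rw [List.map_cons, List.sum_cons] at hw
    rw [List.map_cons, List.map_cons, List.sum_cons, List.prod_cons]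
    exact hm _ _ _ (h2 y List.mem_cons_self) hw _ (ih (fun z hz => h2 z (List.mem_cons_of_mem _ hz)) (by omega))

theorem h_mem (p : J → ℕ → R) (i : J) (n : ℕ) : newt (p i) n ∈ Submodule.span K (MonR (fun i => newt (p i)) n) := by
  rcases Nat.eq_zero_or_pos n with rfl | hn
  · rw [newt_zero]; exact L_one
  · exact L_gen (Q := fun i => newt (p i)) i hn

end span

theorem span_hp (p : J → ℕ → R) (w : ℕ) :
    Submodule.span ℂ (MonR (fun i => newt (p i)) w) = Submodule.span ℂ (MonR p w) := by
  have h1 : ∀ i n, newt (p i) n ∈ Submodule.span ℂ (MonR p n) := by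
    intro i n
    induction n using Nat.strong_induction_on with
    | _ n ih =>
      rcases Nat.eq_zero_or_pos n with rfl | hn
      · rw [newt_zero]; exact L_one
      rw [← Submodule.smul_mem_iff _ (Nat.cast_ne_zero.2 hn.ne' : (n : ℂ) ≠ 0), Nat.cast_smul_eq_nsmul, nsmul_eq_mul, newt_rec]
      refine Submodule.sum_mem _ fun x hx => ?_
      have := mem_range.1 hx
      have h := L_mul (L_gen (K := ℂ) (Q := p) i x.succ_pos) (ih (n - 1 - x) (by omega))
      rwa [show x.succ + (n - 1 - x) = n by omega] at h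
  have h2 : ∀ i n, p i (n + 1) ∈ Submodule.span ℂ (MonR (fun i => newt (p i)) (n + 1)) := by
    intro i n
    induction n using Nat.strong_induction_on with
    | _ n ih =>
      have h := newt_rec (p i) (n + 1)
      rw [sum_range_succ, show n + 1 - 1 - n = 0 by omega, newt_zero, mul_one] at h
      rw [← sub_eq_iff_eq_add'.2 h, ← nsmul_eq_mul]
      refine Submodule.sub_mem _ (nsmul_mem (h_mem p i _) _) (Submodule.sum_mem _ fun x hx => ?_)
      have := mem_range.1 hx
      have h := L_mul (ih x this) (h_mem (K := ℂ) p i (n + 1 - 1 - x))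
      rwa [show x + 1 + (n + 1 - 1 - x) = n + 1 by omega] at h
  refine le_antisymm (L_le (fun w => Submodule.span ℂ (MonR p w)) w L_one (fun i k _ _ _ f hf => L_mul (h1 i k) hf) le_rfl)
    (L_le (fun w => Submodule.span ℂ (MonR (fun i => newt (p i)) w)) w L_one (fun i k _ hk _ f hf => ?_) le_rfl)
  obtain ⟨k, rfl⟩ : ∃ k', k = k' + 1 := ⟨k - 1, by omega⟩
  exact L_mul (h2 i k) hf

/-- the products of the determinants -/
noncomputable def XX (p : J → ℕ → R) (β : J → Fin m → ℕ) : R := ∏ i, JT (p i) (β i)

/-- the families of strictly increasing tuples of weight `w` -/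
def Tu (J : Type) [Fintype J] (m w : ℕ) : Set (J → Fin m → ℕ) :=
  {β | ∃ n : J → ℕ, ∑ i, n i = w ∧ ∀ i, StrictMono (β i) ∧ ∑ l, β i l = n i + ∑ l : Fin m, (l : ℕ)}

theorem Tu_finite (w : ℕ) : (Tu J m w).Finite := by
  refine (Set.finite_Iic fun _ _ => w + ∑ l : Fin m, (l : ℕ)).subset ?_
  rintro β ⟨n, h1, h2⟩ i l
  have h3 := single_le_sum (f := β i) (fun _ _ => Nat.zero_le _) (mem_univ l)
  have h4 := single_le_sum (f := n) (fun _ _ => Nat.zero_le _) (mem_univ i)
  have := (h2 i).2
  dsimp only
  omega

theorem prod_update {A B : Type*} [CommMonoid A] (f : J → B → A) (β : J → B) (i : J) (γ : B) :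
    ∏ x, f x (Function.update β i γ x) = f i γ * ∏ x ∈ univ.erase i, f x (β x) := by
  rw [← mul_prod_erase _ _ (mem_univ i), Function.update_self,
    prod_congr rfl fun y hy => by rw [Function.update_of_ne (ne_of_mem_erase hy)]]

theorem XX_update (p : J → ℕ → R) (β : J → Fin m → ℕ) (i : J) (γ : Fin m → ℕ) :
    XX p (Function.update β i γ) = JT (p i) γ * ∏ x ∈ univ.erase i, JT (p x) (β x) := prod_update (fun x => JT (p x)) β i γ

theorem vac_gr : vac (gr m) = 1 := pair_self_of_strictMono (β := gr m) fun _ _ h => h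

theorem XX_gr (p : J → ℕ → R) : XX p (fun _ => gr m) = 1 := by
  simp [XX, JT_ground _ (β := gr m) rfl, vac_gr]

theorem span_XX (p : J → ℕ → R) {w : ℕ} (hw : w ≤ m) :
    Submodule.span ℤ (XX p '' Tu J m w) = Submodule.span ℤ (MonR (fun i => newt (p i)) w) := by
  refine le_antisymm (Submodule.span_le.2 ?_) (L_le (fun w => Submodule.span ℤ (XX p '' Tu J m w)) m ?_ ?_ hw)
  · rintro _ ⟨β, ⟨n, rfl, h⟩, rfl⟩
    refine L_prod _ _ _ fun i _ => ?_
    rw [← one_mul (JT _ _)]
    refine JT_ind _ (h i).2 _ _ fun c hc => ?_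
    rw [one_mul, ← hc]
    exact L_prod _ _ _ fun l _ => h_mem p i _
  · exact Submodule.subset_span ⟨fun _ => gr m, ⟨0, by simp, fun _ => ⟨fun _ _ h => h, by simp [gr]⟩⟩, XX_gr p⟩
  · intro i k w hk hw f hf
    refine (Submodule.span_le (p := (Submodule.span ℤ (XX p '' Tu J m (k + w))).comap
      (LinearMap.mulLeft ℤ (newt (p i) k)))).2 ?_ hf
    rintro _ ⟨β, ⟨n, h1, h2⟩, rfl⟩
    have h3 := single_le_sum (f := n) (fun _ _ => Nat.zero_le _) (mem_univ i)
    show newt (p i) k * XX p β ∈ Submodule.span ℤ (XX p '' Tu J m (k + w))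
    rw [XX, ← mul_prod_erase _ _ (mem_univ i), ← mul_assoc]
    refine (Submodule.span_le (p := (Submodule.span ℤ (XX p '' Tu J m (k + w))).comap
      (LinearMap.mulRight ℤ (∏ x ∈ univ.erase i, JT (p x) (β x))))).2 ?_ (mul_JT_mem (p i) (h2 i).2 (by omega) k)
    rintro _ ⟨γ, h4, h5, rfl⟩
    refine Submodule.subset_span ⟨Function.update β i γ, ⟨Function.update n i (n i + k), ?_, fun x => ?_⟩, XX_update p β i γ⟩
    · rw [sum_update_of_mem (mem_univ i), sdiff_singleton_eq_erase, ← h1, ← add_sum_erase _ _ (mem_univ i)]; omega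
    · by_cases hx : x = i
      · subst hx; simpa using ⟨h4, h5⟩
      · simpa [hx] using h2 x

theorem XX_alt (p : J → ℕ → R) (β : J → Fin m → ℕ) (i : J) : Alt fun γ => XX p (Function.update β i γ) := by
  intro σ γ
  simp only [XX_update]
  rw [JT_alt, smul_mul_assoc]

theorem der_XX (D : Derivation ℂ R R) {p : J → ℕ → R} {j : ℕ} (hj : 0 < j) (i : J)
    (hD : ∀ x l, 0 < l → D (p x l) = if x = i ∧ l = j then (j : ℂ) • (1 : R) else 0) (β : J → Fin m → ℕ) :
    D (XX p β) = ∑ l, if j ≤ β i l then XX p (Function.update β i (dn (β i) l j)) else 0 := by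
  rw [XX, ← mul_prod_erase _ _ (mem_univ i), D.leibniz, eig_prod D _ (fun _ => 0) _ fun x hx => by
    rw [der_JT D hj 0 fun l hl => by simp [hD x l hl, ne_of_mem_erase hx], zero_smul, zero_smul],
    der_JT D hj 1 fun l hl => by simp [hD i l hl]]
  simp only [XX_update, sum_const_zero, zero_smul, mul_zero, zero_add, one_smul, smul_eq_mul, mul_sum]
  exact sum_congr rfl fun l _ => by split_ifs <;> simp [mul_comm]

variable {W : Type*} [AddCommGroup W] [Module ℂ W]

/-- lowering all beads, with complex weights -/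
theorem multiC {X : (J → Fin m → ℕ) → W} (hX : ∀ β i, Alt fun γ => X (Function.update β i γ)) (E : Module.End ℂ W) (ω : J → ℂ)
    (hE : ∀ β, E (X β) = ∑ i, ω i • ∑ j, if 1 ≤ β i j then X (Function.update β i (dn (β i) j 1)) else 0) (n : ℕ) :
    ∀ (w : J → ℕ) (β : J → Fin m → ℕ), ∑ i, w i = n → (∀ i, ∑ j, β i j = w i + ∑ j : Fin m, (j : ℕ)) →
      (∏ i, ((w i).factorial : ℂ)) • (E ^ n) (X β) =
        (n.factorial * ∏ i, (ω i ^ w i * FM (Multiset.replicate (w i) 1) (β i))) • X fun _ => gr m := by
  induction n with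
  | zero =>
    intro w β hw hs
    have h0 : ∀ i, w i = 0 := fun i => (Finset.sum_eq_zero_iff.1 hw) i (mem_univ _)
    simp only [h0, zero_add] at hs
    simp [h0, all_ground (m := fun _ => m) hX hs, ← Int.cast_smul_eq_zsmul ℂ]
  | succ n ih =>
    intro w β hw hs
    have step : ∀ i, (∏ i, ((w i).factorial : ℂ)) • (E ^ n) (ω i • ∑ j, if 1 ≤ β i j then
        X (Function.update β i (dn (β i) j 1)) else 0) = (w i : ℂ) • ((n.factorial : ℂ) *
          ∏ i, (ω i ^ w i * FM (Multiset.replicate (w i) 1) (β i))) • X fun _ => gr m := by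
      intro i
      obtain h0 | ⟨k, hk⟩ : w i = 0 ∨ ∃ k, w i = k + 1 := by cases w i <;> simp
      · rw [h0, Nat.cast_zero, zero_smul, Finset.sum_eq_zero, smul_zero, map_zero, smul_zero]
        intro j _
        split_ifs with hj
        · refine alt_low (hX β i) ?_
          have := sum_dn (β i) j hj
          have := hs i
          omega
        · rfl
      · have e1 : ∀ f : J → ℕ → (Fin m → ℕ) → ℂ, ∀ γ, ∏ a, f a (Function.update w i k a) (Function.update β i γ a) =
            f i k γ * ∏ a ∈ univ.erase i, f a (w a) (β a) := fun f γ => by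
          rw [← Finset.mul_prod_erase _ _ (mem_univ i), Function.update_self, Function.update_self]
          congr 1
          exact Finset.prod_congr rfl fun a ha => by
            rw [Function.update_of_ne (Finset.ne_of_mem_erase ha), Function.update_of_ne (Finset.ne_of_mem_erase ha)]
        have e2 : ∀ j, (∏ i, ((w i).factorial : ℂ)) • (E ^ n) (if 1 ≤ β i j then
            X (Function.update β i (dn (β i) j 1)) else 0) = ((w i : ℂ) * n.factorial * ω i ^ k *
              (∏ a ∈ univ.erase i, ω a ^ w a * FM (Multiset.replicate (w a) 1) (β a)) *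
              ((if 1 ≤ β i j then FM (Multiset.replicate k 1) (dn (β i) j 1) else 0 : ℤ) : ℂ)) • X fun _ => gr m := by
          intro j
          split_ifs with hj
          · have h1 := ih (Function.update w i k) (Function.update β i (dn (β i) j 1))
              (by
                rw [Finset.sum_update_of_mem (mem_univ i), Finset.sdiff_singleton_eq_erase]
                rw [← Finset.add_sum_erase _ _ (mem_univ i)] at hw
                omega)
              (fun a => by
                by_cases ha : a = i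
                · subst ha
                  rw [Function.update_self, Function.update_self]
                  have := sum_dn (β a) j hj
                  have := hs a
                  omega
                · rw [Function.update_of_ne ha, Function.update_of_ne ha]; exact hs a)
            rw [e1 (fun a x γ => ω a ^ x * FM (Multiset.replicate x 1) γ), e1 (fun _ x _ => (x.factorial : ℂ)) (β i)] at h1
            rw [← Finset.mul_prod_erase _ _ (mem_univ i), hk, Nat.factorial_succ, Nat.cast_mul, mul_assoc, mul_smul, h1,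
              smul_smul]
            congr 1
            ring
          · simp
        rw [map_smul, map_sum, smul_comm, Finset.smul_sum, Finset.sum_congr rfl fun j _ => e2 j, ← Finset.sum_smul,
          ← Finset.mul_sum, ← Int.cast_sum, ← FM_cons, ← Multiset.replicate_succ, smul_smul, smul_smul,
          ← Finset.mul_prod_erase _ (fun i => ω i ^ w i * FM (Multiset.replicate (w i) 1) (β i)) (mem_univ i), hk]
        congr 1
        ring
    rw [pow_succ, Module.End.mul_apply, hE, map_sum, Finset.smul_sum, Finset.sum_congr rfl fun i _ => step i,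
      ← Finset.sum_smul, ← Nat.cast_sum, hw, smul_smul, Nat.factorial_succ]
    congr 1
    push_cast
    ring

end Cfsg.Agent.PQ.Sf
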