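import Cfsg.Agent.PQ.Val.Multi
import Cfsg.Agent.H421.GLn.Newt

/-!
# PQ, Schur functions: the Jacobi-Trudi determinants in a commutative algebra (helper58)
-/

set_option autoImplicit false
set_option linter.unusedSectionVars false

namespace Cfsg.Agent.PQ.Sf

open Finset Cfsg.Agent.H614 Cfsg.Agent.H421.GLn

variable {R : Type*} [CommRing R] [Algebra ℂ R] {m : ℕ}

theorem der_prod {ι : Type*} [DecidableEq ι] (D : Derivation ℂ R R) (f : ι → R) (s : Finset ι) :
    D (∏ x ∈ s, f x) = ∑ x ∈ s, D (f x) * ∏ y ∈ s.erase x, f y := by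
  induction s using Finset.induction_on with
  | empty => simp
  | insert a s ha ih =>
    rw [prod_insert ha, D.leibniz, ih, sum_insert ha, erase_insert ha, smul_eq_mul, smul_eq_mul, add_comm, mul_comm, mul_sum]
    congr 1
    refine sum_congr rfl fun x hx => ?_
    rw [erase_insert_of_ne (fun e : a = x => ha (e ▸ hx)), prod_insert fun h => ha (mem_of_mem_erase h)]; ring

theorem eig_prod {ι : Type*} (D : Derivation ℂ R R) (f : ι → R) (c : ι → ℂ) (s : Finset ι)
    (h : ∀ x ∈ s, D (f x) = c x • f x) : D (∏ x ∈ s, f x) = (∑ x ∈ s, c x) • ∏ x ∈ s, f x := by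
  classical
  rw [der_prod, sum_smul]
  exact sum_congr rfl fun x hx => by rw [h x hx, smul_mul_assoc, mul_prod_erase _ _ hx]

/-- `h (n - s)`, zero for `n < s` -/
noncomputable def hz (p : ℕ → R) (n s : ℕ) : R := if s ≤ n then newt p (n - s) else 0

/-- the Jacobi-Trudi determinant -/
noncomputable def JT (p : ℕ → R) (β : Fin m → ℕ) : R := ∑ σ : Equiv.Perm (Fin m), sg σ • ∏ l, hz p (β l) (σ l)

theorem der_newt (D : Derivation ℂ R R) {p : ℕ → R} {j : ℕ} (hj : 0 < j) (e : ℂ)
    (hD : ∀ l, 0 < l → D (p l) = if l = j then (e * j) • (1 : R) else 0) (n : ℕ) : D (newt p n) = e • hz p n j := by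
  induction n using Nat.strong_induction_on with
  | _ n ih =>
    rcases Nat.eq_zero_or_pos n with rfl | hn
    · rw [newt_zero, hz, if_neg (by omega)]; simp
    refine natCast_inj hn.ne' ?_
    have h1 := congrArg D (newt_rec p n)
    rw [D.leibniz, D.map_natCast, smul_zero, add_zero, smul_eq_mul, map_sum] at h1
    rw [h1, sum_congr rfl fun i hi => by
      rw [D.leibniz, ih _ (by have := mem_range.1 hi; omega), hD _ i.succ_pos], sum_add_distrib]
    by_cases hjn : j ≤ n
    · have h2 : ∑ i ∈ range n, p (i + 1) • e • hz p (n - 1 - i) j = e • ((n - j : ℕ) * newt p (n - j)) := by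
        rw [newt_rec, smul_sum, ← sum_subset (range_subset_range.2 (Nat.sub_le n j))]
        · refine sum_congr rfl fun i hi => ?_
          have := mem_range.1 hi
          rw [hz, if_pos (by omega), smul_eq_mul, mul_smul_comm, show n - 1 - i - j = n - j - 1 - i by omega]
        · intro i _ hi
          rw [mem_range] at hi
          rw [hz, if_neg (by omega), smul_zero, smul_zero]
      rw [h2, sum_eq_single (j - 1) (fun i _ hi => by rw [if_neg (by omega), smul_zero])
        (fun h => absurd (mem_range.2 (by omega)) h), if_pos (by omega), hz, if_pos hjn, Nat.cast_sub hjn,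
        show n - 1 - (j - 1) = n - j by omega, smul_eq_mul, mul_smul, Nat.cast_smul_eq_nsmul, nsmul_eq_mul]
      simp only [Algebra.smul_def]; ring
    · rw [hz, if_neg hjn, smul_zero, mul_zero, sum_eq_zero, sum_eq_zero, add_zero]
      · intro i hi
        have := mem_range.1 hi
        rw [if_neg (by omega), smul_zero]
      · intro i _
        rw [hz, if_neg (by omega), smul_zero, smul_zero]

theorem der_JT (D : Derivation ℂ R R) {p : ℕ → R} {j : ℕ} (hj : 0 < j) (e : ℂ)
    (hD : ∀ l, 0 < l → D (p l) = if l = j then (e * j) • (1 : R) else 0) (β : Fin m → ℕ) :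
    D (JT p β) = e • ∑ l, if j ≤ β l then JT p (dn β l j) else 0 := by
  have h1 : ∀ n s, D (hz p n s) = e • if j ≤ n then hz p (n - j) s else 0 := by
    intro n s
    unfold hz
    split_ifs with h1 h2 h3 h2 h3
    · rw [der_newt D hj e hD, hz, if_pos (by omega), Nat.sub_right_comm]
    · rw [der_newt D hj e hD, hz, if_neg (by omega)]
    · rw [der_newt D hj e hD, hz, if_neg (by omega)]
    · omega
    · simp
    · simp
  have h2 : ∀ l, (if j ≤ β l then JT p (dn β l j) else 0) = ∑ σ : Equiv.Perm (Fin m), sg σ •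
      ((if j ≤ β l then hz p (β l - j) (σ l) else 0) * ∏ y ∈ univ.erase l, hz p (β y) (σ y)) := by
    intro l
    split_ifs with h
    · refine sum_congr rfl fun σ _ => ?_
      rw [← mul_prod_erase _ _ (mem_univ l), dn_self, prod_congr rfl fun y hy => by rw [dn_ne β j (ne_of_mem_erase hy)]]
    · simp
  rw [JT, map_sum, sum_congr rfl fun l _ => h2 l, sum_comm, smul_sum]
  refine sum_congr rfl fun σ _ => ?_
  rw [map_zsmul, der_prod, ← smul_sum, smul_comm e]
  simp only [h1, smul_mul_assoc, smul_sum]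

theorem eul_newt (E : Derivation ℂ R R) {p : ℕ → R} (hE : ∀ l, E (p l) = (l : ℂ) • p l) (n : ℕ) :
    E (newt p n) = (n : ℂ) • newt p n := by
  induction n using Nat.strong_induction_on with
  | _ n ih =>
    rcases Nat.eq_zero_or_pos n with rfl | hn
    · rw [newt_zero]; simp
    refine natCast_inj hn.ne' ?_
    have h1 := congrArg E (newt_rec p n)
    rw [E.leibniz, E.map_natCast, smul_zero, add_zero, smul_eq_mul, map_sum] at h1
    rw [h1, mul_smul_comm, newt_rec, smul_sum]
    refine sum_congr rfl fun i hi => ?_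
    have := mem_range.1 hi
    rw [E.leibniz, ih _ (by omega), hE, show (n : ℂ) = ((n - 1 - i : ℕ) : ℂ) + ((i + 1 : ℕ) : ℂ) by
      rw [← Nat.cast_add]; congr 1; omega]
    simp only [Algebra.smul_def, map_add, Algebra.algebraMap_self, RingHom.id_apply]; ring

theorem eul_JT (E : Derivation ℂ R R) {p : ℕ → R} (hE : ∀ l, E (p l) = (l : ℂ) • p l) {β : Fin m → ℕ} {n : ℕ}
    (hβ : ∑ l, β l = n + ∑ l : Fin m, (l : ℕ)) : E (JT p β) = (n : ℂ) • JT p β := by
  rw [JT, map_sum, smul_sum]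
  refine sum_congr rfl fun σ _ => ?_
  rw [map_zsmul, eig_prod E _ (fun l => (β l : ℂ) - ((σ l : ℕ) : ℂ)), smul_comm]
  · congr 1
    rw [sum_sub_distrib, ← Nat.cast_sum, ← Nat.cast_sum, hβ, Equiv.sum_comp σ fun l : Fin m => (l : ℕ)]
    simp
  · intro l _
    unfold hz
    split_ifs with h
    · rw [eul_newt E hE, Nat.cast_sub h]
    · simp

theorem JT_alt (p : ℕ → R) : Alt (JT (m := m) p) := by
  intro τ β
  rw [JT, JT, smul_sum, ← Equiv.sum_comp (Equiv.mulRight τ)]
  refine sum_congr rfl fun σ _ => ?_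
  rw [Equiv.coe_mulRight, sg_mul, mul_comm, mul_smul, ← Equiv.prod_comp τ fun l => hz p (β l) (σ l)]
  rfl

theorem JT_ground (p : ℕ → R) {β : Fin m → ℕ} (hβ : ∑ l, β l = ∑ l : Fin m, (l : ℕ)) : JT p β = vac β := by
  rw [JT, vac, Int.cast_sum]
  refine sum_congr rfl fun σ _ => ?_
  split_ifs with h
  · simp [h, hz, newt_zero]
  · by_cases h1 : ∀ l, ((σ l : Fin m) : ℕ) ≤ β l
    · have h2 := (sum_eq_sum_iff_of_le fun l _ => h1 l).1 ((Equiv.sum_comp σ fun l : Fin m => (l : ℕ)).trans hβ.symm)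
      exact absurd (funext fun l => (h2 l (mem_univ _)).symm) h
    · obtain ⟨l, hl⟩ := not_forall.1 h1
      rw [prod_eq_zero (mem_univ l) (if_neg hl), smul_zero, Int.cast_zero]

theorem map_JT (cc : R →ₐ[ℂ] ℂ) {p : ℕ → R} (h : ∀ l, cc (p l) = 0) (β : Fin m → ℕ) : cc (JT p β) = vac β := by
  have h1 : ∀ n s, cc (hz p n s) = if n = s then 1 else 0 := by
    intro n s
    unfold hz
    split_ifs with h1 h2 h2
    · simp [h2, newt_zero]
    · refine natCast_inj (n := n - s) (by omega) ?_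
      rw [← map_natCast cc, ← map_mul, newt_rec]
      simp [h]
    · omega
    · simp
  rw [JT, vac, map_sum, Int.cast_sum]
  refine sum_congr rfl fun σ _ => ?_
  rw [map_zsmul, map_prod]
  simp only [h1, Fintype.prod_boole, funext_iff]
  split_ifs <;> simp

/-- the span of the determinants of weight `n` -/
def SS (m : ℕ) (p : ℕ → R) (n : ℕ) : Submodule ℤ R :=
  Submodule.span ℤ {f | ∃ β : Fin m → ℕ, StrictMono β ∧ ∑ l, β l = n + ∑ l : Fin m, (l : ℕ) ∧ f = JT p β}

theorem rearr {β : Fin m → ℕ} (hβ : StrictMono β) {τ : Equiv.Perm (Fin m)} (hτ : τ ≠ 1) :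
    ∑ l, (β l : ℤ) * ((τ l : ℕ) : ℤ) < ∑ l, (β l : ℤ) * ((l : ℕ) : ℤ) := by
  have h1 : Monovary (fun l => (β l : ℤ)) fun l : Fin m => ((l : ℕ) : ℤ) := fun i j h => by
    have : i < j := by beta_reduce at h; exact_mod_cast h
    beta_reduce
    exact_mod_cast (hβ this).le
  refine h1.sum_mul_comp_perm_lt_sum_mul_iff.2 fun h => hτ ?_
  have h2 : StrictMono τ.symm := Monotone.strictMono_of_injective (monotone_iff_forall_lt.2 fun i j hij => by
    have := h (i := τ.symm i) (j := τ.symm j) (by simpa using hij)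
    beta_reduce at this
    exact hβ.le_iff_le.1 (by exact_mod_cast this)) τ.symm.injective
  have h3 := (h2.range_inj strictMono_id).1 (by simp)
  exact inv_eq_one.1 (Equiv.ext (congrFun h3))

theorem prod_mem_SS (p : ℕ → R) (n : ℕ) (c : Fin m → ℕ) (hc : ∑ l, c l = n) : ∏ l, newt p (c l) ∈ SS m p n := by
  induction h : n ^ 2 - ∑ l, c l ^ 2 using Nat.strong_induction_on generalizing c with
  | _ k ih =>
    let s := Tuple.sort c
    have hs : Monotone (c ∘ s) := Tuple.monotone_sort c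
    let β : Fin m → ℕ := fun l => c (s l) + l
    have hβ : StrictMono β := fun i j h => add_lt_add_of_le_of_lt (hs h.le) h
    have hn : ∑ l, β l = n + ∑ l : Fin m, (l : ℕ) := by rw [sum_add_distrib, Equiv.sum_comp s c, hc]
    have h1 : JT p β ∈ SS m p n := Submodule.subset_span ⟨β, hβ, hn, rfl⟩
    rw [JT, ← add_sum_erase _ _ (mem_univ 1)] at h1
    have h2 : sg (1 : Equiv.Perm (Fin m)) • ∏ l, hz p (β l) ((1 : Equiv.Perm (Fin m)) l) = ∏ l, newt p (c l) := by
      rw [← Equiv.prod_comp s fun l => newt p (c l)]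
      simp [sg, hz, β]
    rw [h2] at h1
    refine (Submodule.add_mem_iff_left _ (Submodule.sum_mem _ fun τ hτ => Submodule.smul_mem _ _ ?_)).1 h1
    by_cases h3 : ∀ l, ((τ l : Fin m) : ℕ) ≤ β l
    · rw [prod_congr rfl fun l _ => show hz p (β l) (τ l) = newt p (β l - τ l) from if_pos (h3 l)]
      have h4 : ∑ l, (β l - τ l) = n := by
        rw [sum_tsub_distrib _ fun l _ => h3 l, hn, Equiv.sum_comp τ fun l : Fin m => (l : ℕ)]; simp
      refine ih _ ?_ _ h4 rfl
      have h5 : ∑ l, (β l - τ l) ^ 2 ≤ n ^ 2 := h4 ▸ sum_sq_le_sq_sum_of_nonneg fun _ _ => Nat.zero_le _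
      have h6 : ((∑ l, c l ^ 2 : ℕ) : ℤ) < ((∑ l, (β l - τ l) ^ 2 : ℕ) : ℤ) := by
        have e1 : ((∑ l, c l ^ 2 : ℕ) : ℤ) =
            ∑ l, (β l : ℤ) ^ 2 - 2 * ∑ l, (β l : ℤ) * ((l : ℕ) : ℤ) + ∑ l : Fin m, ((l : ℕ) : ℤ) ^ 2 := by
          rw [← Equiv.sum_comp s fun l => c l ^ 2, mul_sum, ← sum_sub_distrib, ← sum_add_distrib, Nat.cast_sum]
          exact sum_congr rfl fun l _ => by simp only [β]; push_cast; ring
        have e2 : ((∑ l, (β l - τ l) ^ 2 : ℕ) : ℤ) =
            ∑ l, (β l : ℤ) ^ 2 - 2 * ∑ l, (β l : ℤ) * ((τ l : ℕ) : ℤ) + ∑ l : Fin m, ((l : ℕ) : ℤ) ^ 2 := by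
          rw [← Equiv.sum_comp τ fun l : Fin m => ((l : ℕ) : ℤ) ^ 2, mul_sum, ← sum_sub_distrib, ← sum_add_distrib, Nat.cast_sum]
          exact sum_congr rfl fun l _ => by rw [Nat.cast_pow, Nat.cast_sub (h3 l)]; ring
        rw [e1, e2]
        linarith [rearr hβ (ne_of_mem_erase hτ)]
      omega
    · obtain ⟨l, hl⟩ := not_forall.1 h3
      rw [prod_eq_zero (mem_univ l) (if_neg hl)]
      exact zero_mem _

/-- a determinant is an integral combination of products -/
theorem JT_ind (p : ℕ → R) {β : Fin m → ℕ} {n : ℕ} (hβ : ∑ l, β l = n + ∑ l : Fin m, (l : ℕ)) (g : R) (S : Submodule ℤ R)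
    (h : ∀ c : Fin m → ℕ, ∑ l, c l = n → g * ∏ l, newt p (c l) ∈ S) : g * JT p β ∈ S := by
  rw [JT, mul_sum]
  refine Submodule.sum_mem _ fun τ _ => ?_
  rw [mul_smul_comm]
  refine Submodule.smul_mem _ _ ?_
  by_cases h3 : ∀ l, ((τ l : Fin m) : ℕ) ≤ β l
  · rw [prod_congr rfl fun l _ => show hz p (β l) (τ l) = newt p (β l - τ l) from if_pos (h3 l)]
    refine h _ ?_
    rw [sum_tsub_distrib _ fun l _ => h3 l, hβ, Equiv.sum_comp τ fun l : Fin m => (l : ℕ)]; simp
  · obtain ⟨l, hl⟩ := not_forall.1 h3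
    rw [prod_eq_zero (mem_univ l) (if_neg hl), mul_zero]
    exact zero_mem _

theorem mul_JT_mem (p : ℕ → R) {β : Fin m → ℕ} {n : ℕ} (hβ : ∑ l, β l = n + ∑ l : Fin m, (l : ℕ)) (hn : n < m) (k : ℕ) :
    newt p k * JT p β ∈ SS m p (n + k) := by
  refine JT_ind p hβ _ _ fun c hc => ?_
  obtain ⟨l, hl⟩ : ∃ l, c l = 0 := by
    by_contra h
    have : ∑ _l : Fin m, 1 ≤ ∑ l, c l := sum_le_sum fun l _ => Nat.pos_of_ne_zero fun e => h ⟨l, e⟩
    simp at this; omega
  have h1 := prod_mem_SS p (n + k) (Function.update c l k) (by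
    rw [sum_update_of_mem (mem_univ l), sdiff_singleton_eq_erase, ← hc, ← add_sum_erase _ _ (mem_univ l), hl]; omega)
  rw [← mul_prod_erase _ _ (mem_univ l), Function.update_self,
    prod_congr rfl fun y hy => by rw [Function.update_of_ne (ne_of_mem_erase hy)]] at h1
  rwa [← mul_prod_erase _ _ (mem_univ l), hl, newt_zero, one_mul]

end Cfsg.Agent.PQ.Sf
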