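import Cfsg.Agent.PQ.Sf.Gr
import Cfsg.Agent.PQ.Th.Defs

/-!
# PQ, Schur functions: `boxSF` (helper58)
-/

set_option autoImplicit false
set_option linter.unusedSectionVars false

namespace Cfsg.Agent.PQ.Sf

open Finset Module MvPolynomial Cfsg.Agent.H614 Cfsg.Agent.H421.GLn Cfsg.Agent.PQ.Val Cfsg.Agent.PQ.Th
open scoped ComplexConjugate

variable {V : Type} [AddCommGroup V] [Module ℂ V] {H : HS V} {m : ℕ} {J : Type} [Fintype J] [DecidableEq J]

/-- the inner product as a linear map of the first variable -/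
noncomputable def ipL (H : HS V) (v : V) : V →ₗ[ℂ] ℂ :=
  Finsupp.linearCombination ℂ (fun i => conj (H.b.repr v i)) ∘ₗ H.b.repr.toLinearMap

theorem ip_eq (u v : V) : H.ip u v = ipL H v u := rfl

theorem ip_conj (u v : V) : H.ip u v = conj (H.ip v u) := by
  classical
  rw [HS.ip, HS.ip, Finsupp.sum_of_support_subset _ (subset_union_left (s₂ := (H.b.repr v).support)) _ (by simp),
    Finsupp.sum_of_support_subset _ (subset_union_right (s₁ := (H.b.repr u).support)) _ (by simp), map_sum]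
  simp [mul_comm]

theorem ip_zero_right (u : V) : H.ip u 0 = 0 := by simp [HS.ip]

theorem ip_sum {ι κ : Type*} (s : Finset ι) (t : Finset κ) (f : ι → V) (g : κ → V) :
    H.ip (∑ x ∈ s, f x) (∑ y ∈ t, g y) = ∑ x ∈ s, ∑ y ∈ t, H.ip (f x) (g y) := by
  rw [ip_eq, map_sum]
  refine sum_congr rfl fun x _ => ?_
  rw [← ip_eq, ip_conj, ip_eq, map_sum, map_sum]
  exact sum_congr rfl fun y _ => (ip_conj _ _).symm

theorem exists_hom {σ : Type} (Q : σ → End ℂ V) (hc : ∀ x y, Commute (Q x) (Q y)) :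
    ∃ Φ : MvPolynomial σ ℂ →ₐ[ℂ] End ℂ V, ∀ x, Φ (X x) = Q x := by
  have h := Algebra.isMulCommutative_adjoin ℂ (s := Set.range Q) (by rintro _ ⟨x, rfl⟩ _ ⟨y, rfl⟩; exact hc x y)
  let _ : CommRing (Algebra.adjoin ℂ (Set.range Q)) :=
    { (inferInstance : Ring (Algebra.adjoin ℂ (Set.range Q))) with mul_comm := h.is_comm.comm }
  exact ⟨(Algebra.adjoin ℂ (Set.range Q)).val.comp (aeval fun x => ⟨Q x, Algebra.subset_adjoin ⟨x, rfl⟩⟩), fun x => by simp⟩

/-- orthogonality from the lowering rule and the Euler identity -/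
theorem ortho {P Ps : J → ℕ → End ℂ V} {a : ℕ} {Y : (J → Fin m → ℕ) → V}
    (hadj : ∀ i j, 0 < j → j ≤ a → H.Adj (P i j) (Ps i j)) (hY : ∀ β i, Alt fun γ => Y (Function.update β i γ))
    (hs : ∀ i j β, 0 < j → j ≤ a →
      Ps i j (Y β) = ∑ l, if j ≤ β i l then Y (Function.update β i (dn (β i) l j)) else 0)
    (he : ∀ β (n : J → ℕ), (∀ i, ∑ l, β i l = n i + ∑ l : Fin m, (l : ℕ)) →
      ((∑ i, n i : ℕ) : ℂ) • Y β = ∑ i, ∑ j ∈ Icc 1 a, P i j (Ps i j (Y β)))
    (h0 : ∀ γ, H.ip (Y fun _ => gr m) (Y γ) = ((∏ i, vac (γ i) : ℤ) : ℂ)) (w : ℕ) (hw : w ≤ a) :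
    ∀ (n : J → ℕ) (β γ : J → Fin m → ℕ), ∑ i, n i = w → (∀ i, ∑ l, β i l = n i + ∑ l : Fin m, (l : ℕ)) →
      H.ip (Y β) (Y γ) = ((∏ i, pair (β i) (γ i) : ℤ) : ℂ) := by
  induction w using Nat.strong_induction_on with
  | _ w ih =>
    intro n β γ hn hβ
    rcases Nat.eq_zero_or_pos w with rfl | hw0
    · have h1 : ∀ i, n i = 0 := fun i => (sum_eq_zero_iff.1 hn) i (mem_univ _)
      simp only [h1, zero_add] at hβ
      rw [all_ground (m := fun _ => m) hY hβ, ip_eq, map_zsmul, ← ip_eq, h0, zsmul_eq_mul, ← Int.cast_mul, ← prod_mul_distrib]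
      simp only [vac_mul_vac (hβ _)]
    refine mul_left_cancel₀ (Nat.cast_ne_zero.2 hw0.ne' : (w : ℂ) ≠ 0) ?_
    have h1 := congrArg (ipL H (Y γ)) (he β n hβ)
    rw [map_smul, hn, smul_eq_mul, ← ip_eq, map_sum] at h1
    rw [h1, ← hn, Nat.cast_sum, sum_mul]
    refine sum_congr rfl fun i _ => ?_
    have h2 := single_le_sum (f := n) (fun _ _ => Nat.zero_le _) (mem_univ i)
    rw [map_sum, ← mul_prod_erase _ _ (mem_univ i), Int.cast_mul, ← mul_assoc, ← Int.cast_natCast, ← Int.cast_mul,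
      ← pair_energy (n i) (hβ i), Int.cast_sum, sum_mul, ← sum_subset (Icc_subset_Icc_right (show n i ≤ a by omega))]
    · refine sum_congr rfl fun j hj => ?_
      obtain ⟨h3, h4⟩ := mem_Icc.1 hj
      rw [← ip_eq, hadj i j h3 (by omega), hs i j β h3 (by omega), hs i j γ h3 (by omega), ip_sum, Int.cast_sum, sum_mul]
      refine sum_congr rfl fun l _ => ?_
      rw [Int.cast_sum, sum_mul]
      refine sum_congr rfl fun l' _ => ?_
      split_ifs with h5 h6
      · rw [ih (w - j) (by omega) (by omega) (Function.update n i (n i - j)) _ _ ?_ fun x => ?_, ← Int.cast_mul,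
          ← mul_prod_erase _ _ (mem_univ i), Function.update_self, Function.update_self, prod_congr rfl fun y hy => by
            rw [Function.update_of_ne (ne_of_mem_erase hy), Function.update_of_ne (ne_of_mem_erase hy)]]
        · rw [sum_update_of_mem (mem_univ i), sdiff_singleton_eq_erase, ← hn, ← add_sum_erase _ _ (mem_univ i)]; omega
        · by_cases hx : x = i
          · subst hx
            have := sum_dn (β x) l h5
            have := hβ x
            rw [Function.update_self, Function.update_self]; omega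
          · rw [Function.update_of_ne hx, Function.update_of_ne hx]; exact hβ x
      · simp [ip_zero_right]
      · simp [ip_eq]
      · simp [ip_eq]
    · intro j hj hj'
      rw [mem_Icc] at hj hj'
      rw [hs i j β hj.1 hj.2, sum_eq_zero, map_zero, map_zero]
      intro l _
      split_ifs with h5
      · refine alt_low (hY β i) ?_
        have := sum_dn (β i) l h5
        have := hβ i
        omega
      · rfl

theorem image_MonR {Φ : MvPolynomial (J × ℕ) ℂ →ₐ[ℂ] End ℂ V} {κ : V} {q : J → ℕ → MvPolynomial (J × ℕ) ℂ}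
    {Q : J → ℕ → End ℂ V} {w : ℕ} (h : ∀ i j, 0 < j → j ≤ w → Φ (q i j) = Q i j) :
    (fun f => Φ f κ) '' MonR q w = Mon Q κ w := by
  have key : ∀ l : List (J × ℕ), (∀ y ∈ l, 0 < y.2) → (l.map Prod.snd).sum = w →
      Φ (l.map fun y => q y.1 y.2).prod = (l.map fun y => Q y.1 y.2).prod := by
    intro l h1 h2
    rw [map_list_prod, List.map_map]
    refine congrArg List.prod (List.map_congr_left fun y hy => h _ _ (h1 y hy) ?_)
    exact h2 ▸ List.single_le_sum (fun _ _ => Nat.zero_le _) _ (List.mem_map_of_mem hy)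
  ext u
  constructor
  · rintro ⟨_, ⟨l, h1, h2, rfl⟩, rfl⟩
    exact ⟨l, h1, h2, by rw [← key l h1 h2]⟩
  · rintro ⟨l, h1, h2, rfl⟩
    exact ⟨_, ⟨l, h1, h2, rfl⟩, by rw [← key l h1 h2]⟩

theorem boxSF : BoxSF := by
  intro V _ _ H J _ _ P Ps a κ hadj hc hr hκ h0 w hw
  obtain ⟨Φ, hΦ⟩ := exists_hom (fun x : J × ℕ => if 0 < x.2 ∧ x.2 ≤ a then P x.1 x.2 else 0) fun x y => by
    split_ifs with h1 h2
    · exact hc _ _ _ _ h1.1 h1.2 h2.1 h2.2
    all_goals simp
  let p : J → ℕ → MvPolynomial (J × ℕ) ℂ := fun i j => if 0 < j ∧ j ≤ a then X (i, j) else 0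
  let D : J → ℕ → Derivation ℂ (MvPolynomial (J × ℕ) ℂ) (MvPolynomial (J × ℕ) ℂ) := fun i j => (j : ℂ) • pderiv (i, j)
  let φ : MvPolynomial (J × ℕ) ℂ →ₗ[ℂ] V := LinearMap.applyₗ κ ∘ₗ Φ.toLinearMap
  have hφ : ∀ f, φ f = Φ f κ := fun _ => rfl
  have hp : ∀ i j, 0 < j → j ≤ a → Φ (p i j) = P i j := fun i j h1 h2 => by simp [p, h1, h2, hΦ]
  have hD : ∀ i j, 0 < j → j ≤ a → ∀ x l, D i j (p x l) = if x = i ∧ l = j then (j : ℂ) • 1 else 0 := by
    intro i j h1 h2 x l
    by_cases h : x = i ∧ l = j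
    · simp [D, p, h, h1, h2]
    · rw [if_neg h]
      simp only [D, p]
      split_ifs
      · rw [Derivation.smul_apply, pderiv_X_of_ne (by simpa using h), smul_zero]
      · simp
  have hPs : ∀ i j, 0 < j → j ≤ a → ∀ f, Ps i j (φ f) = φ (D i j f) := by
    intro i j h1 h2 f
    induction f using MvPolynomial.induction_on with
    | C c => rw [← algebraMap_eq, Derivation.map_algebraMap, Algebra.algebraMap_eq_smul_one, map_smul, map_smul, hφ, map_one,
        End.one_apply, h0 i j h1 h2, smul_zero, map_zero]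
    | add f g hf hg => simp only [map_add, hf, hg]
    | mul_X f x hf =>
      rw [Derivation.leibniz, map_add, smul_eq_mul, smul_eq_mul, mul_comm f, mul_comm f, hφ, hφ, hφ, map_mul, map_mul, map_mul,
        End.mul_apply, End.mul_apply, End.mul_apply, ← hφ, ← hφ, ← hf, hΦ]
      split_ifs with h
      · have h3 := hD i j h1 h2 x.1 x.2
        rw [show p x.1 x.2 = X x from if_pos h] at h3
        rw [← End.mul_apply, hr i x.1 j x.2 h1 h2 h.1 h.2, h3, add_comm, LinearMap.add_apply, End.mul_apply]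
        congr 1
        by_cases h4 : x.1 = i ∧ x.2 = j
        · simp [h4]
        · rw [if_neg h4, if_neg fun e => h4 ⟨e.2.symm, e.1.symm⟩]; simp
      · have : x ≠ (i, j) := fun e => h (by rw [e]; exact ⟨h1, h2⟩)
        simp [D, pderiv_X_of_ne this]
  have hcc : ∀ f, H.ip (φ f) κ = aeval (fun _ => (0 : ℂ)) f := by
    intro f
    induction f using MvPolynomial.induction_on with
    | C c => rw [← algebraMap_eq, AlgHom.commutes, Algebra.algebraMap_eq_smul_one, map_smul, ip_eq, map_smul, ← ip_eq, hφ,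
        map_one, End.one_apply, hκ]; simp
    | add f g hf hg => rw [map_add, ip_eq, map_add, ← ip_eq, ← ip_eq, hf, hg, map_add]
    | mul_X f x _ =>
      rw [hφ, map_mul (aeval _), aeval_X, mul_zero, mul_comm, map_mul, End.mul_apply, hΦ]
      split_ifs with h
      · rw [hadj _ _ h.1 h.2, h0 _ _ h.1 h.2, ip_zero_right]
      · simp [ip_eq]
  have hh : ∀ i n, n ≤ a → Φ (newt (p i) n) = nw (P i) n := by
    intro i n
    induction n using Nat.strong_induction_on with
    | _ n ih =>
      intro hn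
      cases n with
      | zero => rw [newt_zero, map_one]; exact (nw.eq_def (P i) 0).symm
      | succ n =>
        rw [newt, map_smul, map_sum, show nw (P i) (n + 1) =
          ((n + 1 : ℂ)⁻¹) • ∑ x : Fin (n + 1), P i (x + 1) * nw (P i) (n - x) from nw.eq_def _ _]
        refine congrArg _ (sum_congr rfl fun x _ => ?_)
        rw [map_mul, hp i _ (by omega) (by omega), ih _ (by omega) (by omega)]
  let Y : (J → Fin w → ℕ) → V := fun β => φ (XX p β)
  have hY : ∀ β i, Alt fun γ => Y (Function.update β i γ) := fun β i σ γ => by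
    have := XX_alt p β i σ γ
    simp only [Y] at this ⊢
    rw [this, map_zsmul]
  have hs : ∀ i j β, 0 < j → j ≤ a →
      Ps i j (Y β) = ∑ l, if j ≤ β i l then Y (Function.update β i (dn (β i) l j)) else 0 := by
    intro i j β h1 h2
    rw [hPs i j h1 h2, der_XX _ h1 i fun x l _ => hD i j h1 h2 x l, map_sum]
    exact sum_congr rfl fun l _ => by split_ifs <;> simp [Y]
  have hg : (Y fun _ => gr w) = κ := by simp [Y, XX_gr, hφ]
  have ho := ortho hadj hY hs (fun β n hβ => by
    let E := ∑ i, ∑ j ∈ Icc 1 a, p i j • D i j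
    have hE : ∀ f, E f = ∑ i, ∑ j ∈ Icc 1 a, p i j * D i j f := fun f => by
      have h : ∀ {ι : Type} (s : Finset ι) (F : ι → Derivation ℂ (MvPolynomial (J × ℕ) ℂ) (MvPolynomial (J × ℕ) ℂ)),
          (∑ x ∈ s, F x) f = ∑ x ∈ s, F x f := fun s F =>
        (congrFun (map_sum Derivation.coeFnAddMonoidHom F s) f).trans (Finset.sum_apply _ _ _)
      simp only [E, h, Derivation.smul_apply, smul_eq_mul]
    have h1 : ∀ x l, E (p x l) = (l : ℂ) • p x l := by
      intro x l
      rw [hE, sum_congr rfl fun i _ => sum_congr rfl fun j hj => by rw [hD i j (mem_Icc.1 hj).1 (mem_Icc.1 hj).2],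
        sum_eq_single x (fun i _ hi => by simp [hi.symm]) (by simp)]
      by_cases h : 0 < l ∧ l ≤ a
      · rw [sum_eq_single l (fun j _ hj => by simp [hj.symm]) fun h' => absurd (mem_Icc.2 h) h']; simp
      · rw [show p x l = 0 from if_neg h, smul_zero]
        exact sum_eq_zero fun j hj => by
          rw [if_neg fun e : x = x ∧ l = j => h (e.2 ▸ mem_Icc.1 hj), mul_zero]
    have h2 := eig_prod E (fun i => JT (p i) (β i)) (fun i => (n i : ℂ)) univ fun i _ => eul_JT E (h1 i) (hβ i)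
    rw [← map_smul, Nat.cast_sum, XX, ← h2, hE, map_sum]
    refine sum_congr rfl fun i _ => (map_sum φ _ _).trans (sum_congr rfl fun j hj => ?_)
    obtain ⟨h3, h4⟩ := mem_Icc.1 hj
    rw [hPs i j h3 h4, hφ, map_mul, hp i j h3 h4]
    rfl) (fun γ => by
    rw [hg, ip_conj, hcc, XX, map_prod]
    rw [prod_congr rfl fun i _ => map_JT (aeval fun _ => (0 : ℂ)) (fun l => by simp only [p]; split_ifs <;> simp) (γ i)]
    simp) w hw
  have hZ : Submodule.span ℤ (Y '' Tu J w w) = Submodule.span ℤ (Mon (fun i => nw (P i)) κ w) := by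
    rw [← image_MonR (Φ := Φ) (q := fun i => newt (p i)) fun i j _ h => hh i j (h.trans hw),
      show Y '' Tu J w w = φ '' (XX p '' Tu J w w) from Set.image_comp φ (XX p) _]
    exact (Submodule.span_image (φ.restrictScalars ℤ)).trans ((congrArg _ (span_XX p le_rfl)).trans
      (Submodule.span_image (φ.restrictScalars ℤ)).symm)
  refine ⟨((Tu_finite (J := J) (m := w) w).image Y).toFinset, ?_, ?_, ?_, ?_, ?_⟩
  · simp only [Set.Finite.mem_toFinset]
    rintro _ ⟨β, ⟨n, h1, h2⟩, rfl⟩
    rw [ho n β β h1 fun i => (h2 i).2]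
    simp [pair_self_of_strictMono (h2 _).1]
  · simp only [Set.Finite.mem_toFinset]
    rintro _ ⟨β, ⟨n, h1, h2⟩, rfl⟩ _ ⟨γ, ⟨n', -, h3⟩, rfl⟩ hne
    obtain ⟨i, hi⟩ := Function.ne_iff.1 fun e : β = γ => hne (by rw [e])
    rw [ho n β γ h1 fun i => (h2 i).2, prod_eq_zero (mem_univ i) (pair_eq_zero_of_strictMono (h2 i).1 (h3 i).1 hi), Int.cast_zero]
  · rw [Set.Finite.coe_toFinset, hZ]
  · rw [Set.Finite.coe_toFinset, ← Submodule.span_span_of_tower ℤ, hZ, Submodule.span_span_of_tower,
      ← image_MonR (Φ := Φ) (q := fun i => newt (p i)) fun i j _ h => hh i j (h.trans hw),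
      ← image_MonR (Φ := Φ) (q := p) fun i j h1 h => hp i j h1 (h.trans hw)]
    exact (Submodule.span_image φ).trans ((congrArg _ (span_hp p w)).trans (Submodule.span_image φ).symm)
  · simp only [Set.Finite.mem_toFinset]
    rintro _ ⟨β, ⟨n, h1, h2⟩, rfl⟩
    have hf : w.factorial = (∏ i, (n i).factorial) * Nat.multinomial univ n := by rw [Nat.multinomial_spec, h1]
    refine ⟨Nat.multinomial univ n * ∏ i, FM (Multiset.replicate (n i) 1) (β i), n, ?_, fun c => ?_⟩
    · rw [hf, Nat.cast_mul, Nat.cast_prod, mul_comm]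
      exact mul_dvd_mul_right (prod_dvd_prod_of_dvd _ _ fun i _ => ones_dvd (h2 i).1.injective (h2 i).2) _
    · have h3 := multiC hY (if w = 0 then 0 else ∑ i, c i • Ps i 1) c (fun β => ?_) w n β h1 fun i => (h2 i).2
      · rw [show (if w = 0 then 0 else ∑ i, c i • Ps i 1) ^ w = (∑ i, c i • Ps i 1) ^ w by split_ifs with h <;> simp [h], hg,
          hf, Nat.cast_mul, Nat.cast_prod, mul_assoc, mul_smul] at h3
        rw [smul_right_injective V (prod_ne_zero_iff.2 fun i _ => Nat.cast_ne_zero.2 (Nat.factorial_ne_zero _)) h3,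
          prod_mul_distrib]
        push_cast
        congr 1
        ring
      · split_ifs with h
        · subst h; simp
        · rw [LinearMap.sum_apply]
          exact sum_congr rfl fun i _ => by rw [LinearMap.smul_apply, hs i 1 β one_pos (by omega)]

end Cfsg.Agent.PQ.Sf
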